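import Cfsg.Agent.H881.PA2
import Cfsg.Agent.H881.PureS

/-!
# S5672, part (A1b): growth of the support of a pure element (helper891)
-/

set_option autoImplicit false

namespace Cfsg.Agent.H891.C7

open Matrix Cfsg.Agent.H919 Cfsg.Agent.H881 Cfsg.Agent.H880 Module Cfsg.Agent.ClassicalGeometry


section ring

variable {F : Type*} [Field F] {n : Type*} [Fintype n] [DecidableEq n]

/-- `1 + X` is an element of `M`. -/
def In (M : Subgroup (Matrix.GeneralLinearGroup n F)) (X : Matrix n n F) : Prop :=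
  ∃ g ∈ M, (g : Matrix n n F) = 1 + X

theorem In.conj {M : Subgroup (Matrix.GeneralLinearGroup n F)} {X : Matrix n n F} (h : In M X)
    {g : Matrix.GeneralLinearGroup n F} (hg : g ∈ M) :
    In M ((g : Matrix n n F) * X * ((g⁻¹ : Matrix.GeneralLinearGroup n F) : Matrix n n F)) := by
  obtain ⟨x, hx, hX⟩ := h
  refine ⟨g * x * g⁻¹, M.mul_mem (M.mul_mem hg hx) (M.inv_mem hg), ?_⟩
  rw [Units.val_mul, Units.val_mul, hX, mul_add, mul_one, add_mul, Units.mul_inv]

/-- The commutator of `1 + X` and `1 + Y`. -/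
theorem In.comm {M : Subgroup (Matrix.GeneralLinearGroup n F)} {X Y : Matrix n n F} (hX : In M X) (hY : In M Y)
    (h1 : X * X = 0) (h2 : Y * Y = 0) (h3 : X * Y * X = 0) (h4 : Y * X * Y = 0) : In M (X * Y - Y * X) := by
  obtain ⟨x, hx, hX⟩ := hX
  obtain ⟨y, hy, hY⟩ := hY
  have hxi : ((x⁻¹ : Matrix.GeneralLinearGroup n F) : Matrix n n F) = 1 - X := by
    have e : (x : Matrix n n F) * (1 - X) = 1 := by
      rw [hX]
      have : (1 + X) * (1 - X) = 1 - X * X := by noncomm_ring
      rw [this, h1, sub_zero]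
    calc ((x⁻¹ : Matrix.GeneralLinearGroup n F) : Matrix n n F)
        = ((x⁻¹ : Matrix.GeneralLinearGroup n F) : Matrix n n F) * ((x : Matrix n n F) * (1 - X)) := by rw [e, mul_one]
      _ = 1 - X := by rw [← mul_assoc, Units.inv_mul, one_mul]
  have hyi : ((y⁻¹ : Matrix.GeneralLinearGroup n F) : Matrix n n F) = 1 - Y := by
    have e : (y : Matrix n n F) * (1 - Y) = 1 := by
      rw [hY]
      have : (1 + Y) * (1 - Y) = 1 - Y * Y := by noncomm_ring
      rw [this, h2, sub_zero]
    calc ((y⁻¹ : Matrix.GeneralLinearGroup n F) : Matrix n n F)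
        = ((y⁻¹ : Matrix.GeneralLinearGroup n F) : Matrix n n F) * ((y : Matrix n n F) * (1 - Y)) := by rw [e, mul_one]
      _ = 1 - Y := by rw [← mul_assoc, Units.inv_mul, one_mul]
  refine ⟨x * y * x⁻¹ * y⁻¹, M.mul_mem (M.mul_mem (M.mul_mem hx hy) (M.inv_mem hx)) (M.inv_mem hy), ?_⟩
  rw [Units.val_mul, Units.val_mul, Units.val_mul, hxi, hyi, hX, hY]
  have e : (1 + X) * (1 + Y) * (1 - X) * (1 - Y) = 1 + (X * Y - Y * X) - X * X - Y * Y - X * Y * X + Y * X * Y
      + X * X * Y - X * (Y * Y) + X * Y * X * Y := by noncomm_ring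
  rw [e, h1, h2, h3, h4]
  simp

end ring

section pure

variable {F : Type*} [Field F] {k t : ℕ} {σ : F →+* F}

theorem pureMat_zero {x : Fin t → Matrix (Fin k) (Fin k) F} (i : Fin t) (h : x i = 0) : pureMat x = 0 := by
  ext a b
  rw [pureMat_apply, Matrix.zero_apply]
  exact Finset.prod_eq_zero (Finset.mem_univ i) (by rw [h]; rfl)

theorem pureMat_update_smul (x : Fin t → Matrix (Fin k) (Fin k) F) (i : Fin t) (c : F) (A : Matrix (Fin k) (Fin k) F) :
    pureMat (Function.update x i (c • A)) = c • pureMat (Function.update x i A) := by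
  classical
  ext a b
  rw [Matrix.smul_apply, pureMat_apply, pureMat_apply, ← Finset.mul_prod_erase _ _ (Finset.mem_univ i),
    ← Finset.mul_prod_erase Finset.univ (fun j => Function.update x i A j (a j) (b j)) (Finset.mem_univ i)]
  rw [Function.update_self, Function.update_self, Matrix.smul_apply, smul_eq_mul, smul_eq_mul, mul_assoc]
  congr 2
  apply Finset.prod_congr rfl
  intro j hj
  rw [Function.update_of_ne (Finset.ne_of_mem_erase hj), Function.update_of_ne (Finset.ne_of_mem_erase hj)]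

theorem slotMat_eq (i : Fin t) (A : Matrix (Fin k) (Fin k) F) :
    slotMat i A = pureMat (Function.update (fun _ => 1) i A) := rfl

theorem slotMat_mul_pureMat (i : Fin t) (A : Matrix (Fin k) (Fin k) F) (x : Fin t → Matrix (Fin k) (Fin k) F) :
    slotMat i A * pureMat x = pureMat (Function.update x i (A * x i)) := by
  rw [slotMat_eq, pureMat_mul]
  congr 1
  funext j
  by_cases h : j = i
  · subst h; simp
  · simp [Function.update_of_ne h]

theorem pureMat_mul_slotMat (i : Fin t) (A : Matrix (Fin k) (Fin k) F) (x : Fin t → Matrix (Fin k) (Fin k) F) :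
    pureMat x * slotMat i A = pureMat (Function.update x i (x i * A)) := by
  rw [slotMat_eq, pureMat_mul]
  congr 1
  funext j
  by_cases h : j = i
  · subst h; simp
  · simp [Function.update_of_ne h]

/-- A hyperbolic pair and a vector of norm one orthogonal to it. -/
theorem exists_triple [Finite F] (hσ : σ ≠ RingHom.id F) (hσ2 : ∀ x : F, σ (σ x) = x) (hk : 3 ≤ k) :
    ∃ u u' e : Fin k → F, stB σ k u u = 0 ∧ stB σ k u' u' = 0 ∧ stB σ k u u' = 1 ∧ stB σ k u' u = 1 ∧
      stB σ k e e = 1 ∧ stB σ k u e = 0 ∧ stB σ k e u = 0 ∧ stB σ k u' e = 0 ∧ stB σ k e u' = 0 := by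
  have hS := stB_symm hσ2 k
  let e : Fin k → F := Pi.single ⟨0, by omega⟩ 1
  have hee : stB σ k e e = 1 := by
    show stB σ k (Pi.single _ 1) (Pi.single _ 1) = 1
    rw [stB_single_left, Pi.single_eq_same]
  have hdim := finrank_perp_one (B := stB σ k) e
  rw [finrank_fin_fun] at hdim
  obtain ⟨u, hu, hu0, huu⟩ := exists_isotropic (B := stB σ k) hσ hσ2 hS (perp (stB σ k) {e}) (by omega)
  have heu : stB σ k e u = 0 := hu e rfl
  have hue : stB σ k u e = 0 := symm_zero hS heu
  obtain ⟨z, hz⟩ : ∃ z, stB σ k u z ≠ 0 := by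
    by_contra h
    push Not at h
    exact hu0 (stB_sepLeft k u h)
  have hz' : stB σ k u (z - stB σ k e z • e) ≠ 0 := by
    rw [map_sub, map_smul, hue, smul_zero, sub_zero]; exact hz
  have hez : stB σ k e (z - stB σ k e z • e) = 0 := by
    rw [map_sub, map_smul, hee, smul_eq_mul, mul_one, sub_self]
  obtain ⟨c, d, h1, h2⟩ := exists_partner hσ hσ2 hS huu hz'
  have h3 : stB σ k e (c • (z - stB σ k e z • e) + d • u) = 0 := by
    rw [map_add, map_smul, map_smul, hez, heu, smul_zero, smul_zero, add_zero]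
  exact ⟨u, _, e, huu, h2, h1, by rw [← hS.eq, h1, map_one], hee, hue, heu, symm_zero hS h3, h3⟩

theorem exists_norm [Finite F] (hσ : σ ≠ RingHom.id F) (hσ2 : ∀ x : F, σ (σ x) = x) {ρ : F} (hρ : σ ρ = ρ) :
    ∃ ν : F, σ ν * ν = ρ := by
  by_cases h : ρ = 0
  · exact ⟨0, by rw [mul_zero, h]⟩
  · obtain ⟨c, -, hc⟩ := HermWitt.norm_surj σ hσ hσ2 ρ hρ h
    exact ⟨c, by rw [← hc, mul_comm]⟩

/-- Moving an isotropic vector in a slot. -/
theorem move_slot [Finite F] (hσ : σ ≠ RingHom.id F) (hσ2 : ∀ x : F, σ (σ x) = x) (hk : 3 ≤ k)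
    {M : Subgroup (Matrix.GeneralLinearGroup (Fin t → Fin k) F)} (hM : OverT σ M) {c : F}
    {x : Fin t → Matrix (Fin k) (Fin k) F} {i : Fin t} {u v : Fin k → F} (hx : x i = ee σ u u)
    (hu : u ≠ 0) (huu : stB σ k u u = 0) (hv : v ≠ 0) (hvv : stB σ k v v = 0) (h : In M (c • pureMat x)) :
    In M (c • pureMat (Function.update x i (ee σ v v))) := by
  obtain ⟨z, hz, hzd, hzu⟩ := exists_su hσ hσ2 hk hu hv (by rw [huu, hvv])
  set A := LinearMap.toMatrix' (z : (Fin k → F) →ₗ[F] (Fin k → F)) with hAdef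
  have hAv : ∀ w, A *ᵥ w = z w := fun w => by
    rw [hAdef, LinearMap.toMatrix'_mulVec]; rfl
  have hA : (A.map σ)ᵀ * A = 1 := by
    ext j l
    have h := hz (Pi.single j 1) (Pi.single l 1)
    rw [stB_single_left, stB_apply] at h
    rw [Matrix.mul_apply]
    have h1 : ∀ i, (A.map σ)ᵀ j i * A i l = σ (z (Pi.single j 1) i) * z (Pi.single l 1) i := by
      intro i
      rw [Matrix.transpose_apply, Matrix.map_apply]
      rfl
    rw [Finset.sum_congr rfl fun i _ => h1 i, h, Matrix.one_apply, Pi.single_apply]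
  have hdet : A.det = 1 := by rw [hAdef, LinearMap.det_toMatrix']; exact hzd
  obtain ⟨g, hg, hgA⟩ := hM.slot i A hA hdet
  have hginv : ((g⁻¹ : Matrix.GeneralLinearGroup (Fin t → Fin k) F) : Matrix (Fin t → Fin k) (Fin t → Fin k) F) =
      slotMat i (A.map σ)ᵀ := by
    have e : slotMat i (A.map σ)ᵀ * (g : Matrix (Fin t → Fin k) (Fin t → Fin k) F) = 1 := by
      rw [hgA, slotMat_eq, slotMat_eq, pureMat_mul, ← pureMat_one]
      congr 1
      funext j
      by_cases h : j = i
      · subst h; simp [hA]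
      · simp [Function.update_of_ne h]
    calc ((g⁻¹ : Matrix.GeneralLinearGroup (Fin t → Fin k) F) : Matrix (Fin t → Fin k) (Fin t → Fin k) F)
        = (slotMat i (A.map σ)ᵀ * (g : Matrix (Fin t → Fin k) (Fin t → Fin k) F)) *
            ((g⁻¹ : Matrix.GeneralLinearGroup (Fin t → Fin k) F) : Matrix (Fin t → Fin k) (Fin t → Fin k) F) := by
          rw [e, one_mul]
      _ = _ := by rw [mul_assoc, Units.mul_inv, mul_one]
  have h2 := h.conj hg
  rw [hgA, hginv, mul_smul_comm, smul_mul_assoc, slotMat_mul_pureMat, pureMat_mul_slotMat, Function.update_self,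
    Function.update_idem, hx] at h2
  have h3 : A * ee σ u u * (A.map σ)ᵀ = ee σ v v := by
    unfold ee
    rw [Matrix.mul_vecMulVec, Matrix.vecMulVec_mul, hAv, hzu, Matrix.vecMul_transpose]
    congr 1
    have : (A.map σ) *ᵥ (σ ∘ u) = σ ∘ (A *ᵥ u) := by
      funext j
      simp only [Matrix.mulVec, dotProduct, Function.comp, Matrix.map_apply, map_sum, map_mul]
    rw [this, hAv, hzu]
  rwa [h3] at h2

/-- Permuting the slots. -/
theorem move_perm {M : Subgroup (Matrix.GeneralLinearGroup (Fin t → Fin k) F)} (hM : OverT σ M) {c : F}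
    {x : Fin t → Matrix (Fin k) (Fin k) F} (π : Equiv.Perm (Fin t)) (hπ : Equiv.Perm.sign π = 1)
    (h : In M (c • pureMat x)) : In M (c • pureMat (fun i => x (π.symm i))) := by
  have h2 := h.conj (hM.perm π hπ)
  rwa [mul_smul_comm, smul_mul_assoc, facPerm_conj] at h2

end pure

section step

variable {F : Type*} [Field F] {k s : ℕ} {σ : F →+* F}

/-- The intermediate operators. -/
def mid (σ : F →+* F) (i b : Fin (s + 1)) (I J : Finset (Fin (s + 1))) (v : Fin (s + 1) → Fin k → F) (u' : Fin k → F)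
    (P : Matrix (Fin k) (Fin k) F) (j : Fin (s + 1)) : Matrix (Fin k) (Fin k) F :=
  if j = i then 1 else if j ∈ J then ee σ (v j) (v j) else if j ∈ I then P else if j = b then ee σ u' u' else 1

theorem mid_update (i b : Fin (s + 1)) {I J : Finset (Fin (s + 1))} (v : Fin (s + 1) → Fin k → F) (u' : Fin k → F)
    (P : Matrix (Fin k) (Fin k) F) {m : Fin (s + 1)} (hmi : m ≠ i) :
    Function.update (mid σ i b I J v u' P) m (ee σ (v m) (v m)) = mid σ i b I (insert m J) v u' P := by
  funext j
  by_cases hj : j = m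
  · subst hj
    rw [Function.update_self, mid, if_neg hmi, if_pos (Finset.mem_insert_self _ _)]
  · rw [Function.update_of_ne hj, mid, mid]
    have : j ∈ insert m J ↔ j ∈ J := by rw [Finset.mem_insert]; exact ⟨fun h => h.resolve_left hj, Or.inr⟩
    simp only [this]

variable [Finite F] {M : Subgroup (Matrix.GeneralLinearGroup (Fin (s + 1) → Fin k) F)}

/-- One slot of the intersection. -/
theorem mid_step (hσ : σ ≠ RingHom.id F) (hσ2 : ∀ x : F, σ (σ x) = x) (hk : 3 ≤ k)
    (hqk : 4 ≤ k ∨ ∃ c : F, c ≠ 0 ∧ σ c * c ≠ 1) (hM : OverT σ M) {i b : Fin (s + 1)} {I J : Finset (Fin (s + 1))}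
    {v : Fin (s + 1) → Fin k → F} {u u' e : Fin k → F} (huu : stB σ k u u = 0) (hu'u' : stB σ k u' u' = 0)
    (huu' : stB σ k u u' = 1) (hu'u : stB σ k u' u = 1) (hee : stB σ k e e = 1) (hue : stB σ k u e = 0)
    (heu : stB σ k e u = 0) (hu'e : stB σ k u' e = 0) (heu' : stB σ k e u' = 0)
    {m : Fin (s + 1)} (hmi : m ≠ i) (hmI : m ∈ I) (hmJ : m ∉ J) (hv0 : v m ≠ 0) (hv : stB σ k (v m) (v m) = 0)
    {α β : F} (r : F)
    (h : KI M σ i u (α • pureMat (mid σ i b I J v u' (ee σ u u')) - β • pureMat (mid σ i b I J v u' (ee σ u' u)))) :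
    KI M σ i u ((α * r) • pureMat (mid σ i b I (insert m J) v u' (ee σ u u')) -
      (β * σ r) • pureMat (mid σ i b I (insert m J) v u' (ee σ u' u))) := by
  have hu0 : u ≠ 0 := by
    rintro rfl
    rw [map_zero, LinearMap.zero_apply] at huu'
    exact zero_ne_one huu'
  obtain ⟨ν, hν⟩ := exists_norm hσ hσ2 (ρ := -(r + σ r)) (by rw [map_neg, map_add, hσ2, add_comm])
  set w : Fin k → F := r • u + u' + ν • e with hw
  have h1 : stB σ k w u = 1 := by
    rw [hw]
    simp only [map_add, LinearMap.add_apply, LinearMap.map_smulₛₗ₂, huu, hu'u, heu, smul_eq_mul]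
    ring
  have h2 : stB σ k u' w = r := by
    rw [hw]
    simp only [map_add, map_smul, hu'u, hu'u', hu'e, smul_eq_mul]
    ring
  have h3 : stB σ k w u' = σ r := by
    rw [hw]
    simp only [map_add, LinearMap.add_apply, LinearMap.map_smulₛₗ₂, huu', hu'u', heu', smul_eq_mul]
    ring
  have h4 : stB σ k u w = 1 := by
    rw [hw]
    simp only [map_add, map_smul, huu, huu', hue, smul_eq_mul]
    ring
  have h5 : stB σ k w w = 0 := by
    rw [hw]
    simp only [map_add, LinearMap.add_apply, LinearMap.map_smulₛₗ₂, map_smul, smul_eq_mul, huu, huu', hue, hu'u,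
      hu'u', hu'e, heu, heu', hee]
    linear_combination hν
  have hw0 : w ≠ 0 := by
    intro h0
    rw [h0, map_zero, LinearMap.zero_apply] at h1
    exact zero_ne_one h1
  have h6 := h.step hσ hσ2 hk hqk hM hmi hu0 huu hw0 h5 hv0 hv
  have hmid : ∀ P, mid σ i b I J v u' P m = P := by
    intro P
    rw [mid, if_neg hmi, if_neg hmJ, if_pos hmI]
  have key : ∀ P : Matrix (Fin k) (Fin k) F, ∀ c : F, ee σ (v m) w * P * ee σ w (v m) = c • ee σ (v m) (v m) →
      slotMat m (ee σ (v m) w) * pureMat (mid σ i b I J v u' P) * slotMat m (ee σ w (v m)) =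
        c • pureMat (mid σ i b I (insert m J) v u' P) := by
    intro P c hP
    rw [slotMat_mul_pureMat, pureMat_mul_slotMat, Function.update_self, Function.update_idem, hmid, hP,
      pureMat_update_smul, mid_update i b v u' P hmi]
  have e1 : ee σ (v m) w * ee σ u u' * ee σ w (v m) = r • ee σ (v m) (v m) := by
    rw [ee_mul, Matrix.smul_mul, ee_mul, h1, h2, one_smul]
  have e2 : ee σ (v m) w * ee σ u' u * ee σ w (v m) = σ r • ee σ (v m) (v m) := by
    rw [ee_mul, Matrix.smul_mul, ee_mul, h3, h4, one_smul]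
  have e3 : slotMat m (ee σ (v m) w) * (α • pureMat (mid σ i b I J v u' (ee σ u u')) -
      β • pureMat (mid σ i b I J v u' (ee σ u' u))) * slotMat m (ee σ w (v m)) =
      (α * r) • pureMat (mid σ i b I (insert m J) v u' (ee σ u u')) -
        (β * σ r) • pureMat (mid σ i b I (insert m J) v u' (ee σ u' u)) := by
    rw [mul_sub, sub_mul, Matrix.mul_smul, Matrix.mul_smul, Matrix.smul_mul, Matrix.smul_mul, key _ _ e1, key _ _ e2,
      smul_smul, smul_smul]
  rwa [e3] at h6

/-- **Growth of the support.** -/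
theorem grow (hσ : σ ≠ RingHom.id F) (hσ2 : ∀ x : F, σ (σ x) = x) (hk : 3 ≤ k)
    (hqk : 4 ≤ k ∨ ∃ c : F, c ≠ 0 ∧ σ c * c ≠ 1) (hM : OverT σ M) {S : Finset (Fin (s + 1))} (hS2 : 2 ≤ S.card)
    (h : PureS σ M S) {b : Fin (s + 1)} (hb : b ∉ S) : PureS σ M (insert b S) := by
  classical
  obtain ⟨c, hc0, h⟩ := h
  obtain ⟨i, hi⟩ : S.Nonempty := Finset.card_pos.1 (by omega)
  set I := S.erase i with hI
  have hIc : 1 ≤ I.card := by rw [hI, Finset.card_erase_of_mem hi]; omega
  obtain ⟨m₀, hm₀⟩ : I.Nonempty := Finset.card_pos.1 hIc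
  have hm₀i : m₀ ≠ i := Finset.ne_of_mem_erase hm₀
  have hbi : b ≠ i := fun h => hb (h ▸ hi)
  have hbI : b ∉ I := fun h => hb (Finset.mem_of_mem_erase h)
  have hiI : i ∉ I := Finset.notMem_erase i S
  obtain ⟨u, u', e, huu, hu'u', huu', hu'u, hee, hue, heu, hu'e, heu'⟩ := exists_triple (k := k) hσ hσ2 hk
  have hu0 : u ≠ 0 := by
    rintro rfl
    rw [map_zero, LinearMap.zero_apply] at huu'
    exact zero_ne_one huu'
  have hu'0 : u' ≠ 0 := by
    rintro rfl
    rw [map_zero] at huu'
    exact zero_ne_one huu'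
  -- the first element
  set X := c • pureMat (fun j => if j ∈ S then ee σ u u else 1) with hX
  have hXin : In M X := h (fun _ => u) (fun j _ => ⟨hu0, huu⟩)
  -- the second element
  let π : Equiv.Perm (Fin (s + 1)) := Equiv.swap i b * Equiv.swap m₀ i
  have hπ : Equiv.Perm.sign π = 1 := by
    rw [Equiv.Perm.sign_mul, Equiv.Perm.sign_swap (Ne.symm hbi), Equiv.Perm.sign_swap hm₀i]
    norm_num
  have hm₀b : m₀ ≠ b := fun h => hbI (h ▸ hm₀)
  set Y := c • pureMat (fun j => if j = i then 1 else if j ∈ I ∨ j = b then ee σ u' u' else 1) with hY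
  have hYin : In M Y := by
    have h1 : In M (c • pureMat (fun j => if j ∈ S then ee σ u' u' else 1)) := h (fun _ => u') (fun j _ => ⟨hu'0, hu'u'⟩)
    have h2 := move_perm hM π hπ h1
    have h3 : (fun j => if π.symm j ∈ S then ee σ u' u' else (1 : Matrix (Fin k) (Fin k) F)) =
        fun j => if j = i then 1 else if j ∈ I ∨ j = b then ee σ u' u' else 1 := by
      funext j
      have hπs : π.symm j = Equiv.swap m₀ i (Equiv.swap i b j) := rfl
      rw [hπs]
      by_cases hji : j = i
      · subst hji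
        rw [Equiv.swap_apply_left, Equiv.swap_apply_of_ne_of_ne (Ne.symm hm₀b) hbi, if_neg hb, if_pos rfl]
      by_cases hjb : j = b
      · subst hjb
        rw [Equiv.swap_apply_right, Equiv.swap_apply_right, if_pos (Finset.mem_of_mem_erase hm₀), if_neg hji,
          if_pos (Or.inr rfl)]
      rw [Equiv.swap_apply_of_ne_of_ne hji hjb]
      by_cases hjm : j = m₀
      · subst hjm
        rw [Equiv.swap_apply_left, if_pos hi, if_neg hji, if_pos (Or.inl hm₀)]
      rw [Equiv.swap_apply_of_ne_of_ne hjm hji, if_neg hji]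
      have : j ∈ S ↔ j ∈ I ∨ j = b := by
        rw [hI, Finset.mem_erase]
        constructor
        · exact fun h => Or.inl ⟨hji, h⟩
        · rintro (h | h)
          · exact h.2
          · exact absurd h hjb
      simp only [this]
    rw [h3] at h2
    exact h2
  -- products
  have hmul : ∀ x y : Fin (s + 1) → Matrix (Fin k) (Fin k) F, (c • pureMat x) * (c • pureMat y) =
      (c * c) • pureMat (fun j => x j * y j) := by
    intro x y
    rw [Matrix.smul_mul, Matrix.mul_smul, smul_smul, pureMat_mul]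
  have h0 : ee σ u u * ee σ u u = 0 := by rw [ee_mul, huu, zero_smul]
  have h0' : ee σ u' u' * ee σ u' u' = 0 := by rw [ee_mul, hu'u', zero_smul]
  have hXX : X * X = 0 := by
    rw [hX, hmul, pureMat_zero i (by rw [if_pos hi, h0]), smul_zero]
  have hYY : Y * Y = 0 := by
    rw [hY, hmul, pureMat_zero b (by rw [if_neg hbi, if_pos (Or.inr rfl), h0']), smul_zero]
  have hXYX : X * Y * X = 0 := by
    rw [hX, hY, hmul, Matrix.smul_mul, Matrix.mul_smul, pureMat_mul,
      pureMat_zero i (by rw [if_pos hi, if_pos rfl, mul_one, h0]), smul_zero, smul_zero]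
  have hYXY : Y * X * Y = 0 := by
    rw [hX, hY, hmul, Matrix.smul_mul, Matrix.mul_smul, pureMat_mul,
      pureMat_zero b (by rw [if_neg hbi, if_pos (Or.inr rfl), if_neg hb, mul_one, h0']), smul_zero, smul_zero]
  have hC := hXin.comm hYin hXX hYY hXYX hYXY
  obtain ⟨r, hr⟩ := exists_fix_ne hσ
  refine ⟨c * c * (r - σ r), mul_ne_zero (mul_ne_zero hc0 hc0) (sub_ne_zero.2 (Ne.symm hr)), fun v hv => ?_⟩
  have hvS : ∀ j ∈ S, v j ≠ 0 ∧ stB σ k (v j) (v j) = 0 := fun j hj => hv j (Finset.mem_insert_of_mem hj)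
  have hvb := hv b (Finset.mem_insert_self _ _)
  have hcomm : ∀ (x : Fin (s + 1) → Matrix (Fin k) (Fin k) F), x i = 1 → ∀ A,
      pureMat x * slotMat i A = slotMat i A * pureMat x := by
    intro x hx A
    rw [pureMat_mul_slotMat, slotMat_mul_pureMat, hx, mul_one, one_mul]
  have hmid1 : ∀ J P, mid σ i b I J v u' P i = 1 := fun J P => by rw [mid, if_pos rfl]
  -- the start
  have hXY : X * Y = ((c * c) • pureMat (mid σ i b I ∅ v u' (ee σ u u'))) * slotMat i (ee σ u u) := by
    rw [hX, hY, hmul, Matrix.smul_mul, pureMat_mul_slotMat]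
    congr 2
    funext j
    by_cases hji : j = i
    · subst hji
      rw [Function.update_self, hmid1, if_pos hi, if_pos rfl, one_mul, mul_one]
    · rw [Function.update_of_ne hji, mid, if_neg hji, if_neg hji, if_neg (Finset.notMem_empty _)]
      by_cases hjI : j ∈ I
      · rw [if_pos hjI, if_pos (Or.inl hjI), if_pos (Finset.mem_of_mem_erase hjI), ee_mul, huu', one_smul]
      · have hjS : j ∉ S := fun h => hjI (Finset.mem_erase.2 ⟨hji, h⟩)
        rw [if_neg hjI, if_neg hjS, one_mul]
        by_cases hjb : j = b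
        · rw [if_pos (Or.inr hjb), if_pos hjb]
        · rw [if_neg (by tauto), if_neg hjb]
  have hYX : Y * X = ((c * c) • pureMat (mid σ i b I ∅ v u' (ee σ u' u))) * slotMat i (ee σ u u) := by
    rw [hX, hY, hmul, Matrix.smul_mul, pureMat_mul_slotMat]
    congr 2
    funext j
    by_cases hji : j = i
    · subst hji
      rw [Function.update_self, hmid1, if_pos hi, if_pos rfl, one_mul]
    · rw [Function.update_of_ne hji, mid, if_neg hji, if_neg hji, if_neg (Finset.notMem_empty _)]
      by_cases hjI : j ∈ I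
      · rw [if_pos hjI, if_pos (Or.inl hjI), if_pos (Finset.mem_of_mem_erase hjI), ee_mul, hu'u, one_smul]
      · have hjS : j ∉ S := fun h => hjI (Finset.mem_erase.2 ⟨hji, h⟩)
        rw [if_neg hjI, if_neg hjS, mul_one]
        by_cases hjb : j = b
        · rw [if_pos (Or.inr hjb), if_pos hjb]
        · rw [if_neg (by tauto), if_neg hjb]
  have hstart : KI M σ i u ((c * c) • pureMat (mid σ i b I ∅ v u' (ee σ u u')) -
      (c * c) • pureMat (mid σ i b I ∅ v u' (ee σ u' u))) := by
    refine ⟨fun A => ?_, ?_⟩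
    · rw [sub_mul, mul_sub, Matrix.smul_mul, Matrix.smul_mul, Matrix.mul_smul, Matrix.mul_smul,
        hcomm _ (hmid1 _ _), hcomm _ (hmid1 _ _)]
    · obtain ⟨g, hg, hgC⟩ := hC
      exact ⟨g, hg, by rw [hgC, hXY, hYX, sub_mul]⟩
  -- all slots but `m₀`
  have hstep : ∀ J : Finset (Fin (s + 1)), J ⊆ I.erase m₀ →
      KI M σ i u ((c * c) • pureMat (mid σ i b I J v u' (ee σ u u')) -
        (c * c) • pureMat (mid σ i b I J v u' (ee σ u' u))) := by
    intro J
    induction J using Finset.induction_on with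
    | empty => intro _; exact hstart
    | insert m J hmJ ih =>
      intro hJ
      have hmI' : m ∈ I.erase m₀ := hJ (Finset.mem_insert_self _ _)
      have hmI : m ∈ I := Finset.mem_of_mem_erase hmI'
      have hmi : m ≠ i := fun h => hiI (h ▸ hmI)
      have h1 := ih (fun j hj => hJ (Finset.mem_insert_of_mem hj))
      obtain ⟨h2, h3⟩ := hvS m (Finset.mem_of_mem_erase hmI)
      have h4 := mid_step hσ hσ2 hk hqk hM huu hu'u' huu' hu'u hee hue heu hu'e heu' hmi hmI hmJ h2 h3 1 h1
      rwa [map_one, mul_one] at h4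
  have h1 := hstep _ subset_rfl
  obtain ⟨h2, h3⟩ := hvS m₀ (Finset.mem_of_mem_erase hm₀)
  have h4 := mid_step hσ hσ2 hk hqk hM huu hu'u' huu' hu'u hee hue heu hu'e heu' hm₀i hm₀ (Finset.notMem_erase _ _)
    h2 h3 r h1
  rw [Finset.insert_erase hm₀] at h4
  have hsame : ∀ P P' : Matrix (Fin k) (Fin k) F, mid σ i b I I v u' P = mid σ i b I I v u' P' := by
    intro P P'
    funext j
    rw [mid, mid]
    by_cases hjI : j ∈ I
    · rw [if_pos hjI, if_pos hjI]
    · rw [if_neg hjI, if_neg hjI, if_neg hjI, if_neg hjI]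
  rw [hsame _ 1, hsame (ee σ u' u) 1, ← sub_smul] at h4
  -- the slot `b`
  have h5 := h4.step hσ hσ2 hk hqk hM hbi hu0 huu hu0 huu hvb.1 hvb.2
  have hmidb : mid σ i b I I v u' 1 b = ee σ u' u' := by
    rw [mid, if_neg hbi, if_neg hbI, if_neg hbI, if_pos rfl]
  have hb1 : ee σ (v b) u * ee σ u' u' * ee σ u (v b) = ee σ (v b) (v b) := by
    rw [ee_mul, Matrix.smul_mul, ee_mul, huu', hu'u, one_smul, one_smul]
  rw [Matrix.mul_smul, Matrix.smul_mul, slotMat_mul_pureMat, pureMat_mul_slotMat, Function.update_self,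
    Function.update_idem, hmidb, hb1] at h5
  obtain ⟨-, h6⟩ := h5
  have h7 : In M ((c * c * (r - σ r)) • pureMat (Function.update (Function.update (mid σ i b I I v u' 1) b
      (ee σ (v b) (v b))) i (ee σ u u))) := by
    obtain ⟨g, hg, hgK⟩ := h6
    refine ⟨g, hg, ?_⟩
    rw [hgK, Matrix.smul_mul, pureMat_mul_slotMat, Function.update_of_ne (Ne.symm hbi), hmid1, one_mul]
    congr 2
    ring
  have h8 := move_slot hσ hσ2 hk hM (i := i) (u := u) (v := v i) (Function.update_self _ _ _) hu0 huu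
    (hvS i hi).1 (hvS i hi).2 h7
  obtain ⟨g, hg, hgK⟩ := h8
  refine ⟨g, hg, ?_⟩
  rw [hgK]
  congr 3
  funext j
  by_cases hji : j = i
  · subst hji
    rw [Function.update_self, if_pos (Finset.mem_insert_of_mem hi)]
  rw [Function.update_of_ne hji, Function.update_of_ne hji]
  by_cases hjb : j = b
  · subst hjb
    rw [Function.update_self, if_pos (Finset.mem_insert_self _ _)]
  rw [Function.update_of_ne hjb, mid, if_neg hji]
  by_cases hjI : j ∈ I
  · rw [if_pos hjI, if_pos (Finset.mem_insert_of_mem (Finset.mem_of_mem_erase hjI))]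
  · have hjS : j ∉ insert b S := by
      rw [Finset.mem_insert]
      rintro (h | h)
      · exact hjb h
      · exact hjI (Finset.mem_erase.2 ⟨hji, h⟩)
    rw [if_neg hjI, if_neg hjI, if_neg hjb, if_neg hjS]

/-- The support can be taken to be everything. -/
theorem pureS_univ (hσ : σ ≠ RingHom.id F) (hσ2 : ∀ x : F, σ (σ x) = x) (hk : 3 ≤ k)
    (hqk : 4 ≤ k ∨ ∃ c : F, c ≠ 0 ∧ σ c * c ≠ 1) (hM : OverT σ M) {S : Finset (Fin (s + 1))} (hS2 : 2 ≤ S.card)
    (h : PureS σ M S) : PureS σ M Finset.univ := by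
  classical
  by_cases hS : S = Finset.univ
  · rwa [← hS]
  obtain ⟨b, hb⟩ : ∃ b, b ∉ S := by
    by_contra hcon
    push Not at hcon
    exact hS (Finset.eq_univ_iff_forall.2 hcon)
  have h1 := grow hσ hσ2 hk hqk hM hS2 h hb
  have h2 : (insert b S).card = S.card + 1 := Finset.card_insert_of_notMem hb
  exact pureS_univ hσ hσ2 hk hqk hM (by omega) h1
termination_by Fintype.card (Fin (s + 1)) - S.card
decreasing_by
  have h3 : (insert b S).card ≤ Fintype.card (Fin (s + 1)) := Finset.card_le_univ _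
  omega

/-- **(A1c)** From the full support to `PureT`. -/
theorem pureT_of_univ (hσ : σ ≠ RingHom.id F) (hσ2 : ∀ x : F, σ (σ x) = x) (hk : 3 ≤ k)
    (hM : OverT σ M) (h : PureS σ M Finset.univ) : PureT σ M := by
  classical
  obtain ⟨c, hc0, h⟩ := h
  -- `pureMat` of rank one operators
  have hpure : ∀ v : Fin (s + 1) → Fin k → F, pureMat (fun j => if j ∈ Finset.univ then ee σ (v j) (v j) else 1) =
      vecMulVec (pvec v) (σ ∘ pvec v) := by
    intro v
    ext f g
    rw [pureMat_apply, vecMulVec_apply]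
    simp only [Finset.mem_univ, if_true, ee, vecMulVec_apply, pvec, Function.comp_apply, Finset.prod_mul_distrib,
      map_prod]
  -- `c` is skew
  obtain ⟨u, u', e, huu, -, huu', -⟩ := exists_triple (k := k) hσ hσ2 hk
  have hu0 : u ≠ 0 := by
    rintro rfl
    rw [map_zero, LinearMap.zero_apply] at huu'
    exact zero_ne_one huu'
  have hskew : c + σ c = 0 := by
    obtain ⟨g, hg, hgc⟩ := h (fun _ => u) (fun _ _ => ⟨hu0, huu⟩)
    set X := pureMat (fun j : Fin (s + 1) => if j ∈ Finset.univ then ee σ u u else 1) with hXdef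
    have hXX : X * X = 0 := by
      rw [hXdef, pureMat_mul]
      exact pureMat_zero 0 (by rw [if_pos (Finset.mem_univ _), ee_mul, huu, zero_smul])
    have hXv : X = vecMulVec (pvec fun _ => u) (σ ∘ pvec fun _ => u) := hpure fun _ => u
    have hXt : (X.map σ)ᵀ = X := by
      rw [hXv]
      ext a b
      rw [Matrix.transpose_apply, Matrix.map_apply, vecMulVec_apply, vecMulVec_apply, Function.comp_apply,
        Function.comp_apply, map_mul, hσ2, mul_comm]
    have h1 := hM.iso g hg
    rw [hgc] at h1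
    have h2 : ((1 + c • X : Matrix (Fin (s + 1) → Fin k) (Fin (s + 1) → Fin k) F).map σ)ᵀ = 1 + σ c • X := by
      rw [Matrix.map_add _ (map_add σ), Matrix.map_one _ (map_zero σ) (map_one σ), Matrix.transpose_add,
        Matrix.transpose_one, Matrix.map_smul' σ c X (map_mul σ), Matrix.transpose_smul, hXt]
    rw [h2] at h1
    have h3 : (c + σ c) • X = 0 := by
      have e1 : (1 + σ c • X) * (1 + c • X) = 1 + (c + σ c) • X + (σ c * c) • (X * X) := by
        rw [mul_add, add_mul, add_mul, Matrix.smul_mul, Matrix.mul_smul, Matrix.smul_mul, Matrix.mul_smul, smul_smul,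
          one_mul, mul_one, one_mul, add_smul]
        abel
      rw [e1, hXX, smul_zero, add_zero] at h1
      exact add_eq_left.1 h1
    rcases smul_eq_zero.1 h3 with h4 | h4
    · exact h4
    · exfalso
      obtain ⟨j, hj⟩ : ∃ j, u j ≠ 0 := by
        by_contra hcon
        push Not at hcon
        exact hu0 (funext hcon)
      have h5 := congrFun (congrFun h4 (fun _ => j)) (fun _ => j)
      rw [hXv, vecMulVec_apply, Matrix.zero_apply, Function.comp_apply] at h5
      have h6 : (pvec fun _ : Fin (s + 1) => u) (fun _ => j) ≠ 0 := by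
        unfold pvec
        exact Finset.prod_ne_zero_iff.2 fun _ _ => hj
      rcases mul_eq_zero.1 h5 with h7 | h7
      · exact h6 h7
      · exact h6 ((map_eq_zero σ).1 h7)
  intro w hw l hl
  by_cases hz : ∃ i, w i = 0
  · obtain ⟨i, hi⟩ := hz
    have h0 : pvec w = 0 := by
      funext f
      exact Finset.prod_eq_zero (Finset.mem_univ i) (by rw [hi]; rfl)
    refine ⟨1, M.one_mem, ?_⟩
    rw [h0]
    ext a b
    simp
  push Not at hz
  have hwst : ∀ i, stB σ k (w i) (w i) = 0 := fun i => hw i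
  -- scaling in one slot
  have hρ : σ (l / c) = l / c := by
    rw [map_div₀]
    have e1 : σ l = -l := by linear_combination hl
    have e2 : σ c = -c := by linear_combination hskew
    rw [e1, e2, neg_div_neg_eq]
  by_cases hl0 : l = 0
  · subst hl0
    refine ⟨1, M.one_mem, ?_⟩
    rw [zero_smul, add_zero, Units.val_one]
  obtain ⟨d, hd0, hd⟩ := HermWitt.norm_surj σ hσ hσ2 (l / c) hρ (div_ne_zero hl0 hc0)
  obtain ⟨g, hg, hgc⟩ := h (Function.update w 0 (d • w 0)) (fun i _ => by
    by_cases hi : i = 0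
    · subst hi
      rw [Function.update_self]
      refine ⟨smul_ne_zero hd0 (hz 0), ?_⟩
      rw [LinearMap.map_smulₛₗ₂, map_smul, hwst, smul_zero, smul_zero]
    · rw [Function.update_of_ne hi]
      exact ⟨hz i, hwst i⟩)
  refine ⟨g, hg, ?_⟩
  rw [hgc, hpure]
  have h1 : pvec (Function.update w 0 (d • w 0)) = d • pvec w := by
    funext f
    rw [Pi.smul_apply, smul_eq_mul]
    unfold pvec
    rw [← Finset.mul_prod_erase _ _ (Finset.mem_univ (0 : Fin (s + 1))),
      ← Finset.mul_prod_erase Finset.univ (fun i => w i (f i)) (Finset.mem_univ (0 : Fin (s + 1))),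
      Function.update_self, Pi.smul_apply, smul_eq_mul, mul_assoc]
    congr 2
    apply Finset.prod_congr rfl
    intro j hj
    rw [Function.update_of_ne (Finset.ne_of_mem_erase hj)]
  rw [h1]
  ext a b
  rw [Matrix.add_apply, Matrix.add_apply, Matrix.smul_apply, Matrix.smul_apply, vecMulVec_apply, vecMulVec_apply,
    Function.comp_apply, Function.comp_apply, Pi.smul_apply, Pi.smul_apply, smul_eq_mul, smul_eq_mul, smul_eq_mul,
    smul_eq_mul, map_mul]
  have h2 : c * (d * σ d) = l := by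
    rw [hd]
    field_simp
  linear_combination (pvec w a * σ (pvec w b)) * h2

/-- **(A1b) + (A1c)** -/
theorem pureT_of_pureS (hσ : σ ≠ RingHom.id F) (hσ2 : ∀ x : F, σ (σ x) = x) (hk : 3 ≤ k)
    (hqk : 4 ≤ k ∨ ∃ c : F, c ≠ 0 ∧ σ c * c ≠ 1) (hM : OverT σ M) {S : Finset (Fin (s + 1))} (hS : 2 ≤ S.card)
    (h : PureS σ M S) : PureT σ M :=
  pureT_of_univ hσ hσ2 hk hM (pureS_univ hσ hσ2 hk hqk hM hS h)

end step

end Cfsg.Agent.H891.C7
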